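import Groth.Agent.EtNbhdClosed.Ring
import Groth.Agent.AlgSpDec.LimDescent
import Groth.Agent.AlgSpDec.MonoRep
import Groth.Agent.AlgSpLib.EtLocalInst
import Groth.Agent.AlgSpLib.Points
import Groth.Agent.AlgSpPts.Misc

/-!
# Separating closed subsets by etale neighbourhoods of finite presentation
-/

universe u

set_option autoImplicit false
set_option linter.style.haveILetI false
set_option backward.isDefEq.respectTransparency false
set_option backward.isDefEq.respectTransparency.types false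

open CategoryTheory CategoryTheory.Limits AlgebraicGeometry Opposite AlgSp
open Groth.Agent.AlgSpLib Groth.Agent.AlgSpDec

namespace Groth.Agent.EtNbhdClosed

variable {S : Scheme.{u}}

set_option maxHeartbeats 1600000 in
theorem exists_nbhd {X Y Z : Space S} (f : X ⟶ Y) (g : Z ⟶ Y) (hf : IsQuasiCompactMor f.hom)
    (P : Sp S) (p₁ : P ⟶ X.obj) (p₂ : P ⟶ Z.obj) (hP : IsPullback p₁ p₂ f.hom g.hom)
    (z : Points Z.obj) (T : Set (Points P)) (hT : IsClosed T) (hz : z ∉ Points.map p₂ '' T) :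
    ∃ (V : Over S) (_ : IsAffine V.left) (e : (yon S).obj V ⟶ Z.obj) (_ : RepWith @Etale e) (v : ↥V.left)
      (_ : Points.map e (Points.schemeEquiv V v) = z)
      (Z' : Over S) (_ : IsAffine Z'.left) (b : (yon S).obj Z' ⟶ Y.obj) (_ : LocP @LocallyOfFinitePresentation b)
      (a : V ⟶ Z') (_ : (yon S).map a ≫ b = e ≫ g.hom),
      ∀ (P' : Sp S) (q₁ : P' ⟶ X.obj) (q₂ : P' ⟶ (yon S).obj Z'), IsPullback q₁ q₂ f.hom b →
        ∃ T' : Set (Points P'), IsClosed T' ∧
          Points.schemeEquiv Z' (a.left v) ∉ Points.map q₂ '' T' ∧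
          ∀ (PV : Sp S) (r₁ : PV ⟶ X.obj) (r₂ : PV ⟶ (yon S).obj V), IsPullback r₁ r₂ f.hom (e ≫ g.hom) →
            ∀ (κ₁ : PV ⟶ P) (κ₂ : PV ⟶ P'), κ₁ ≫ p₁ = r₁ → κ₁ ≫ p₂ = r₂ ≫ e → κ₂ ≫ q₁ = r₁ →
              κ₂ ≫ q₂ = r₂ ≫ (yon S).map a →
              ∀ w : Points PV, Points.map κ₁ w ∈ T → Points.map κ₂ w ∈ T' := by
  classical
  obtain ⟨W, w, u₀, hW, hw, hu₀⟩ := exists_affine_chart_at Y.property (Points.map g.hom z)
  have : IsAffine W.left := hW
  have hZW := IsPullback.of_hasPullback g.hom w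
  have hZWa : IsAlgSpace (pullback g.hom w) :=
    isAlgSpace_pullback Z.property (IsAlgSpace.yon_obj W) Y.property g.hom w
  obtain ⟨ζ, hζ, -⟩ := exists_point_of_isPullback hZW (x := z) (y := Points.ofScheme W u₀)
    (by rw [← Points.ofPt_eq_map_ofScheme, hu₀])
  obtain ⟨V, c, v, hV, hc, hv⟩ := exists_affine_chart_at hZWa ζ
  have : IsAffine V.left := hV
  let e : (yon S).obj V ⟶ Z.obj := c ≫ pullback.fst g.hom w
  have he : RepWith @Etale e := repWith_comp hc (repWith_of_isPullback hZW.flip hw)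
  have hev : Points.ofPt e v = z := by rw [← Points.map_ofPt, hv, hζ]
  obtain ⟨h, hh⟩ := (yon S).map_surjective (c ≫ pullback.snd g.hom w)
  have hew : (yon S).map h ≫ w = e ≫ g.hom := by rw [hh, Category.assoc, Category.assoc, hZW.w]
  -- the base change of `f` to the chart and an affine atlas
  have hQ := IsPullback.of_hasPullback f.hom w
  obtain ⟨A, aA, hA, haA, haAs⟩ := exists_affine_atlas (hf (IsAlgSpace.yon_obj W)
    ((AlgSpPts.isQuasiCompactSp_yon_iff W).2 inferInstance) w _ _ hQ)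
  have : IsAffine A.left := hA
  obtain ⟨α, hα⟩ := (yon S).map_surjective (aA ≫ pullback.snd f.hom w)
  let AV : Over S := pullback α h
  let t₁ : AV ⟶ A := pullback.fst α h
  let t₂ : AV ⟶ V := pullback.snd α h
  have sqAV : IsPullback t₁.left t₂.left α.left h.left := (IsPullback.of_hasPullback α h).map (Over.forget S)
  have : IsAffine AV.left := .of_isIso sqAV.isoPullback.hom
  have sqAVy : IsPullback ((yon S).map t₁) ((yon S).map t₂) ((yon S).map α) ((yon S).map h) :=
    (IsPullback.of_hasPullback α h).map (yon S)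
  let μ : (yon S).obj AV ⟶ P := hP.lift ((yon S).map t₁ ≫ aA ≫ pullback.fst f.hom w) ((yon S).map t₂ ≫ e) (by
    rw [Category.assoc, Category.assoc, hQ.w, ← Category.assoc aA, ← hα, ← Category.assoc, sqAVy.w,
      Category.assoc, hew, ← Category.assoc])
  let K : Set AV.left := Points.ofPt μ ⁻¹' T
  have hK : IsClosed K := hT.preimage (Points.continuous_ofPt μ)
  obtain ⟨s, n, cc, m, hs, hm, hj⟩ := exists_separating sqAV hK v fun x hx hxv => hz ⟨_, hx, by
    rw [Points.map_ofPt, hP.lift_snd, ofPt_comp, hxv, hev]⟩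
  let idx : Type u := ULift.{u} (Fin (n + 1))
  let Z' : Over S := Over.mk ((𝔸(idx; W.left) ↘ W.left) ≫ W.hom)
  let b₀ : Z' ⟶ W := Over.homMk (𝔸(idx; W.left) ↘ W.left) rfl
  let vec : idx → Γ(V.left, ⊤) := fun i => (Fin.cons s m : Fin (n + 1) → Γ(V.left, ⊤)) i.down
  let a : V ⟶ Z' := Over.homMk (AffineSpace.homOfVector h.left vec) (by
    show AffineSpace.homOfVector h.left vec ≫ (𝔸(idx; W.left) ↘ W.left) ≫ W.hom = V.hom
    rw [← Category.assoc, AffineSpace.homOfVector_over, Over.w h])
  have hab : a ≫ b₀ = h := Over.OverMorphism.ext (AffineSpace.homOfVector_over _ _)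
  have : IsAffine Z'.left := inferInstanceAs (IsAffine 𝔸(idx; W.left))
  have hblfp : LocP @LocallyOfFinitePresentation ((yon S).map b₀ ≫ w) :=
    locP_of_repWith (repWith_comp
      ((repWith_yon_map_iff _ _).2 (inferInstanceAs (LocallyOfFinitePresentation (𝔸(idx; W.left) ↘ W.left))))
      (repWith_mono (fun _ _ k (_ : Etale k) => inferInstanceAs (LocallyOfFinitePresentation k)) _ hw))
  refine ⟨V, hV, e, he, v, by rw [← hev, Points.ofPt_eq_map_ofScheme]; rfl, Z', ‹_›, (yon S).map b₀ ≫ w, hblfp, a,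
    by rw [← Category.assoc, ← Functor.map_comp, hab, hew], fun P' q₁ q₂ hP' => ?_⟩
  let AZ : Over S := pullback α b₀
  let k₁ : AZ ⟶ A := pullback.fst α b₀
  let k₂ : AZ ⟶ Z' := pullback.snd α b₀
  let k : AV ⟶ AZ := pullback.lift t₁ (t₂ ≫ a) (by rw [Category.assoc, hab]; exact pullback.condition)
  have hk₁ : k ≫ k₁ = t₁ := pullback.lift_fst _ _ _
  have hk₂ : k ≫ k₂ = t₂ ≫ a := pullback.lift_snd _ _ _
  have sqAZy : IsPullback ((yon S).map k₁) ((yon S).map k₂) ((yon S).map α) ((yon S).map b₀) :=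
    (IsPullback.of_hasPullback α b₀).map (yon S)
  let l' : P' ⟶ pullback f.hom w := pullback.lift q₁ (q₂ ≫ (yon S).map b₀) (by rw [Category.assoc, hP'.w])
  have sql' : IsPullback l' q₂ (pullback.snd f.hom w) ((yon S).map b₀) :=
    IsPullback.of_right (by rw [pullback.lift_fst]; exact hP') (pullback.lift_snd _ _ _) hQ
  let ν : (yon S).obj AZ ⟶ P' := sql'.lift ((yon S).map k₁ ≫ aA) ((yon S).map k₂)
    (by rw [Category.assoc, ← hα, sqAZy.w])
  have sqν : IsPullback ((yon S).map k₁) ν aA l' :=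
    IsPullback.of_bot (by rw [← hα, sql'.lift_snd]; exact sqAZy) (sql'.lift_fst _ _ _).symm sql'
  have hνe : RepWith @Etale ν := repWith_of_isPullback sqν haA
  let j₀ : Γ(AZ.left, ⊤) := k₂.left.appTop (AffineSpace.coord W.left (⟨0⟩ : idx)) -
    ∑ i, k₁.left.appTop (cc i) * k₂.left.appTop (AffineSpace.coord W.left (⟨i.succ⟩ : idx))
  refine ⟨(Points.ofPt ν '' (AZ.left.basicOpen j₀ : Set AZ.left))ᶜ,
    (isOpenMap_ofPt hνe _ (AZ.left.basicOpen j₀).isOpen).isClosed_compl, ?_, ?_⟩
  · rintro ⟨t, ht, htv⟩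
    obtain ⟨a', ha'⟩ := surjective_ofPt haAs (Points.map l' t)
    obtain ⟨y, -, hy⟩ := exists_point_of_isPullback sqν (x := Points.ofScheme A a') (y := t)
      (by rw [← Points.ofPt_eq_map_ofScheme, ha'])
    obtain ⟨y, rfl⟩ := (Points.schemeHomeo AZ).surjective y
    have hy' : Points.ofPt ν y = t := (Points.ofPt_eq_map_ofScheme _ _).trans hy
    have hk2y : k₂.left y = a.left v := (Points.schemeEquiv Z').injective (by
      rw [← htv, ← hy', Points.map_ofPt, sql'.lift_snd]
      exact ((congrArg (fun φ => Points.ofPt φ y) (Category.comp_id ((yon S).map k₂))).symm.trans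
        (ofPt_comp k₂ (𝟙 _) y)).symm)
    have hva : ∀ i : idx, a.left.appTop (AffineSpace.coord W.left i) = vec i := fun i =>
      AffineSpace.homOfVector_appTop_coord h.left vec i
    have hmemy : ∀ i : idx, (y ∈ AZ.left.basicOpen (k₂.left.appTop (AffineSpace.coord W.left i)) ↔
        v ∈ V.left.basicOpen (vec i)) := fun i => by
      rw [← hva, ← Scheme.preimage_basicOpen_top, ← Scheme.preimage_basicOpen_top]
      simp only [Scheme.Hom.mem_preimage]
      exact iff_of_eq (congrArg (fun q => q ∈ Z'.left.basicOpen (AffineSpace.coord W.left i)) hk2y)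
    refine ht ⟨y, ?_, hy'⟩
    have sqAZ : IsPullback k₁.left k₂.left α.left b₀.left := (IsPullback.of_hasPullback α b₀).map (Over.forget S)
    have : IsAffine AZ.left := .of_isIso sqAZ.isoPullback.hom
    have h0 := (hmemy ⟨0⟩).2 (show v ∈ V.left.basicOpen (vec ⟨0⟩) from hs)
    have hi : ∀ i : Fin n, k₂.left.appTop (AffineSpace.coord W.left (⟨i.succ⟩ : idx)) ∈
        (AZ.left.isoSpec.hom y).asIdeal := fun i => by
      by_contra hh
      exact hm i (by simpa [vec] using (hmemy ⟨i.succ⟩).1 ((mem_basicOpen_iff y _).2 hh))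
    refine (mem_basicOpen_iff y j₀).2 fun hmem => (mem_basicOpen_iff y _).1 h0 ?_
    have := Ideal.add_mem _ hmem (Ideal.sum_mem _ (t := Finset.univ) fun i _ =>
      Ideal.mul_mem_left _ (k₁.left.appTop (cc i)) (hi i))
    simpa [j₀] using this
  · intro PV r₁ r₂ hPV κ₁ κ₂ h₁ h₁' h₂ h₂' p hp
    rintro ⟨y, hy, hyp⟩
    let l : PV ⟶ pullback f.hom w := κ₂ ≫ l'
    have hl₁ : l ≫ pullback.fst f.hom w = r₁ := by rw [Category.assoc, pullback.lift_fst, h₂]
    have hl₂ : l ≫ pullback.snd f.hom w = r₂ ≫ (yon S).map h := by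
      rw [Category.assoc, pullback.lift_snd, reassoc_of% h₂', ← Functor.map_comp, hab]
    have sql : IsPullback l r₂ (pullback.snd f.hom w) ((yon S).map h) :=
      IsPullback.of_right (by rw [hl₁, hew]; exact hPV) hl₂ hQ
    let lam : (yon S).obj AV ⟶ PV := sql.lift ((yon S).map t₁ ≫ aA) ((yon S).map t₂)
      (by rw [Category.assoc, ← hα, sqAVy.w])
    have sqlam : IsPullback ((yon S).map t₁) lam aA l :=
      IsPullback.of_bot (by rw [← hα, sql.lift_snd]; exact sqAVy) (sql.lift_fst _ _ _).symm sql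
    have hν : (yon S).map k ≫ ν = lam ≫ κ₂ := sql'.hom_ext
      (by rw [Category.assoc, sql'.lift_fst, ← Category.assoc, ← Functor.map_comp, hk₁, Category.assoc,
        sql.lift_fst])
      (by rw [Category.assoc, sql'.lift_snd, ← Functor.map_comp, hk₂, Category.assoc, h₂', ← Category.assoc,
        sql.lift_snd, Functor.map_comp])
    have sqk : IsPullback ((yon S).map k) lam ν κ₂ :=
      IsPullback.of_right (by rw [← Functor.map_comp, hk₁]; exact sqlam) hν sqν
    obtain ⟨x, hx₁, hx₂⟩ := exists_point_of_isPullback sqk (x := Points.ofScheme AZ y) (y := p)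
      (by rw [← Points.ofPt_eq_map_ofScheme, hyp])
    obtain ⟨x, rfl⟩ := (Points.schemeHomeo AV).surjective x
    have hxK : x ∈ K := by
      have hμ : μ = lam ≫ κ₁ := hP.hom_ext
        (by rw [hP.lift_fst, Category.assoc, h₁, ← hl₁, ← Category.assoc lam, sql.lift_fst, Category.assoc])
        (by rw [hP.lift_snd, Category.assoc, h₁', ← Category.assoc lam, sql.lift_snd])
      show Points.ofPt μ x ∈ T
      rw [hμ, Points.ofPt_eq_map_ofScheme, Points.map_comp]
      exact (congrArg (fun q => Points.map κ₁ q ∈ T) hx₂).mpr hp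
    have hkx : k.left x = y := (Points.schemeEquiv AZ).injective (by
      refine Eq.trans ?_ hx₁
      exact (Points.map_yon_map_apply k x).symm)
    refine hj x hxK ?_
    have hjk : k.left.appTop j₀ = t₂.left.appTop s - ∑ i, t₁.left.appTop (cc i) * t₂.left.appTop (m i) := by
      have e1 : ∀ r, k.left.appTop (k₂.left.appTop r) = t₂.left.appTop (a.left.appTop r) := fun r => by
        have h3 : k.left ≫ k₂.left = t₂.left ≫ a.left := congrArg Over.Hom.left hk₂
        have h4 := congrArg (fun φ => φ.appTop r) h3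
        simpa using h4
      have e2 : ∀ r, k.left.appTop (k₁.left.appTop r) = t₁.left.appTop r := fun r => by
        have h4 := congrArg (fun φ => φ.appTop r) (show k.left ≫ k₁.left = t₁.left from congrArg Over.Hom.left hk₁)
        simpa using h4
      have hva : ∀ i : idx, a.left.appTop (AffineSpace.coord W.left i) = vec i := fun i =>
        AffineSpace.homOfVector_appTop_coord h.left vec i
      simp only [j₀, map_sub, map_sum, map_mul, e1, e2, hva, vec, Fin.cons_zero, Fin.cons_succ]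
    rw [← hjk, ← Scheme.preimage_basicOpen_top]
    rw [Scheme.Hom.mem_preimage, hkx]
    exact hy

end Groth.Agent.EtNbhdClosed
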