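import Mathlib

/-!
# Separating a closed set from a fibre by one finitely defined function
-/

universe u

set_option autoImplicit false
set_option linter.style.haveILetI false
set_option backward.isDefEq.respectTransparency false
set_option backward.isDefEq.respectTransparency.types false

open CategoryTheory CategoryTheory.Limits AlgebraicGeometry

namespace Groth.Agent.EtNbhdClosed

theorem mem_basicOpen_iff {X : Scheme.{u}} [IsAffine X] (x : X) (d : Γ(X, ⊤)) :
    x ∈ X.basicOpen d ↔ d ∉ (X.isoSpec.hom x).asIdeal := by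
  rw [← Scheme.toSpecΓ_preimage_basicOpen]
  rfl

/-- Elements of a pushout of rings are sums of products. -/
theorem mem_closure_mul {R A B D : CommRingCat.{u}} {f : R ⟶ A} {g : R ⟶ B} {α : A ⟶ D} {β : B ⟶ D}
    (h : IsPushout f g α β) (d : D) :
    d ∈ AddSubmonoid.closure {y : D | ∃ (a : A) (b : B), α a * β b = y} := by
  algebraize [f.hom, g.hom, α.hom, β.hom, α.hom.comp f.hom]
  haveI : IsScalarTower R B D :=
    IsScalarTower.of_algebraMap_eq fun x => congrArg (fun k : R ⟶ D => k x) h.w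
  haveI : Algebra.IsPushout R A B D :=
    CommRingCat.isPushout_iff_isPushout.mp (by exact h)
  induction d using (Algebra.IsPushout.out (R := R) (S := A) (R' := B) (S' := D)).inductionOn with
  | zero => exact zero_mem _
  | tmul b => exact AddSubmonoid.subset_closure ⟨1, b, by rw [map_one, one_mul]; rfl⟩
  | smul a y hy =>
    induction hy using AddSubmonoid.closure_induction with
    | mem x hx =>
      obtain ⟨a', b', rfl⟩ := hx
      refine AddSubmonoid.subset_closure ⟨a * a', b', ?_⟩
      rw [map_mul, mul_assoc, Algebra.smul_def]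
      rfl
    | zero => rw [smul_zero]; exact zero_mem _
    | add x y _ _ hx hy => rw [smul_add]; exact add_mem hx hy
  | add x y hx hy => exact add_mem hx hy

set_option maxHeartbeats 800000 in
/-- A closed set missing the fibre over a point is cut off by one combination of products. -/
theorem exists_separating {W A V P : Scheme.{u}} [IsAffine W] [IsAffine A] [IsAffine V] [IsAffine P]
    {p₁ : P ⟶ A} {p₂ : P ⟶ V} {a : A ⟶ W} {b : V ⟶ W} (sq : IsPullback p₁ p₂ a b)
    {K : Set P} (hK : IsClosed K) (v : V) (hv : ∀ x ∈ K, p₂ x ≠ v) :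
    ∃ (s : Γ(V, ⊤)) (n : ℕ) (c : Fin n → Γ(A, ⊤)) (m : Fin n → Γ(V, ⊤)), v ∈ V.basicOpen s ∧
      (∀ k, v ∉ V.basicOpen (m k)) ∧
      ∀ x ∈ K, x ∉ P.basicOpen (p₂.appTop s - ∑ k, p₁.appTop (c k) * p₂.appTop (m k)) := by
  classical
  let D := Γ(P, ⊤)
  let hP := P.isoSpec.hom.homeomorph
  let J : Ideal D := PrimeSpectrum.vanishingIdeal (hP '' K)
  have hJ : ∀ d, d ∈ J ↔ ∀ x ∈ K, x ∉ P.basicOpen d := fun d => by
    rw [PrimeSpectrum.mem_vanishingIdeal]
    refine ⟨fun h x hx hd => (mem_basicOpen_iff x d).1 hd (h _ ⟨x, hx, rfl⟩), ?_⟩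
    rintro h _ ⟨x, hx, rfl⟩
    by_contra hd
    exact h x hx ((mem_basicOpen_iff x d).2 hd)
  let pv : Ideal Γ(V, ⊤) := (V.isoSpec.hom v).asIdeal
  let I : Ideal D := J ⊔ pv.map p₂.appTop.hom
  have hex : ∃ s ∉ pv, p₂.appTop s ∈ I := by
    by_contra H
    push Not at H
    obtain ⟨Q, hQ, hIQ, hdisj⟩ := I.exists_le_prime_disjoint
      (pv.primeCompl.map p₂.appTop.hom.toMonoidHom) (Set.disjoint_left.2 (by
        rintro _ hy ⟨s, hs, rfl⟩
        exact H s hs hy))
    let x : P := hP.symm ⟨Q, hQ⟩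
    have hx : hP x = ⟨Q, hQ⟩ := hP.apply_symm_apply _
    have hxK : x ∈ K := by
      have h1 : (⟨Q, hQ⟩ : PrimeSpectrum D) ∈ closure (hP '' K) := by
        rw [← PrimeSpectrum.zeroLocus_vanishingIdeal_eq_closure, PrimeSpectrum.mem_zeroLocus]
        exact (le_sup_left : J ≤ I).trans hIQ
      rw [((hP.isClosedMap _) hK).closure_eq] at h1
      obtain ⟨y, hy, e⟩ := h1
      rwa [show x = y from hP.injective (hx.trans e.symm)]
    refine hv x hxK (V.isoSpec.hom.homeomorph.injective (PrimeSpectrum.ext ?_))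
    ext r
    have h1 : r ∈ (V.isoSpec.hom (p₂ x)).asIdeal ↔ p₂.appTop r ∈ Q := by
      rw [← not_iff_not, ← mem_basicOpen_iff, show Q = (P.isoSpec.hom x).asIdeal from
        congrArg PrimeSpectrum.asIdeal hx.symm, ← mem_basicOpen_iff, ← Scheme.preimage_basicOpen_top]
      rfl
    refine h1.trans ⟨fun h => ?_, fun h => hIQ (Ideal.mem_sup_right (Ideal.mem_map_of_mem _ h))⟩
    by_contra hr
    exact Set.disjoint_left.1 hdisj h ⟨r, hr, rfl⟩
  obtain ⟨s, hs, hsI⟩ := hex
  obtain ⟨j, hj, y, hy, hjy⟩ := Submodule.mem_sup.1 hsI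
  let G : Set D := {y | ∃ (c : Γ(A, ⊤)) (m : Γ(V, ⊤)), m ∈ pv ∧ p₁.appTop c * p₂.appTop m = y}
  have hy' : y ∈ AddSubmonoid.closure G := by
    clear hjy
    induction hy using Submodule.span_induction with
    | mem y hy =>
      obtain ⟨m, hm, rfl⟩ := hy
      exact AddSubmonoid.subset_closure ⟨1, m, hm, by rw [map_one, one_mul]⟩
    | zero => exact zero_mem _
    | add y z _ _ hy hz => exact add_mem hy hz
    | smul d y hyS hy =>
      clear hyS
      have hd := mem_closure_mul (isPushout_appTop_of_isPullback sq) d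
      induction hd using AddSubmonoid.closure_induction with
      | mem d hd =>
        obtain ⟨a', b', rfl⟩ := hd
        induction hy using AddSubmonoid.closure_induction with
        | mem y hy =>
          obtain ⟨c, m, hm, rfl⟩ := hy
          refine AddSubmonoid.subset_closure ⟨a' * c, b' * m, pv.mul_mem_left _ hm, ?_⟩
          rw [map_mul, map_mul, smul_eq_mul]
          ring
        | zero => rw [smul_zero]; exact zero_mem _
        | add x z _ _ hx hz => rw [smul_add]; exact add_mem hx hz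
      | zero => rw [zero_smul]; exact zero_mem _
      | add x z _ _ hx hz => rw [add_smul]; exact add_mem hx hz
  have hsum : ∃ (n : ℕ) (c : Fin n → Γ(A, ⊤)) (m : Fin n → Γ(V, ⊤)), (∀ k, m k ∈ pv) ∧
      y = ∑ k, p₁.appTop (c k) * p₂.appTop (m k) := by
    obtain ⟨l, hl, rfl⟩ := AddSubmonoid.exists_multiset_of_mem_closure hy'
    clear hjy hy hy'
    induction l using Multiset.induction_on with
    | empty => exact ⟨0, Fin.elim0, Fin.elim0, fun k => k.elim0, by simp⟩
    | cons z l ih =>
      obtain ⟨c₀, m₀, hm₀, rfl⟩ := hl _ (Multiset.mem_cons_self _ _)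
      obtain ⟨n, c, m, hm, e⟩ := ih fun w hw => hl w (Multiset.mem_cons_of_mem hw)
      exact ⟨n + 1, Fin.cons c₀ c, Fin.cons m₀ m, Fin.cases hm₀ hm, by
        rw [Multiset.sum_cons, e, Fin.sum_univ_succ]
        simp⟩
  obtain ⟨n, c, m, hm, rfl⟩ := hsum
  refine ⟨s, n, c, m, (mem_basicOpen_iff v s).2 hs, fun k h => (mem_basicOpen_iff v _).1 h (hm k), fun x hx => ?_⟩
  rw [← hjy, add_sub_cancel_right]
  exact (hJ j).1 hj x hx

end Groth.Agent.EtNbhdClosed
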